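import Mathlib
import Groth.Agent.CohenLib.PowerSeries
import Groth.Agent.CohenLib.Structure
import Groth.Agent.LC.GorRing
import Groth.Agent.Synt29.CIKernel

/-! Dimension and maximal ideal of power series over coefficient rings; coefficient presentations. -/

set_option autoImplicit false
set_option linter.style.haveILetI false

universe u

open IsLocalRing

namespace Groth.Agent.AvramovLib

variable {Λ : Type u} [CommRing Λ]

/-- The shape of a coefficient ring: a field of characteristic zero, or a Cohen ring for `p`. -/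
def IsCoeff (p : ℕ) (Λ : Type u) [CommRing Λ] : Prop :=
  (p = 0 ∧ IsField Λ ∧ CharZero Λ) ∨ (p.Prime ∧ ∃ (_ : IsDomain Λ) (_ : IsDiscreteValuationRing Λ),
    IsAdicComplete (maximalIdeal Λ) Λ ∧ maximalIdeal Λ = Ideal.span {(p : Λ)})

theorem IsCoeff.cohen {p : ℕ} (h : IsCoeff p Λ) : IsField Λ ∨ CAlg.IsCohenRing Λ := by
  rcases h with ⟨_, h, _⟩ | ⟨hp, i₁, i₂, hc, hm⟩
  · exact .inl h
  · exact .inr ⟨i₁, i₂, hc, p, hp, hm⟩

theorem IsCoeff.isLocalRing {p : ℕ} (h : IsCoeff p Λ) : IsLocalRing Λ := by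
  rcases h with ⟨_, h, _⟩ | ⟨_, i₁, i₂, _⟩
  · letI := h.toField; infer_instance
  · infer_instance

/-- `0` for fields, `1` for Cohen rings. -/
noncomputable def edim (p : ℕ) : ℕ := if p = 0 then 0 else 1

theorem ringKrullDim_ps {p : ℕ} (h : IsCoeff p Λ) (n : ℕ) :
    ringKrullDim (MvPowerSeries (Fin n) Λ) = ((n + edim p : ℕ) : WithBot ℕ∞) := by
  classical
  obtain ⟨hp, h, _⟩ | ⟨hp, i₁, i₂, hc, hm⟩ := h
  · letI := h.toField
    subst hp
    simp [edim, PSLib.ringKrullDim_eq]
  · rw [edim, if_neg hp.ne_zero]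
    have hspan : (maximalIdeal Λ).spanFinrank ≤ 1 := by
      rw [hm]
      refine (Submodule.spanFinrank_span_le_ncard_of_finite (Set.finite_singleton _)).trans ?_
      simp
    refine le_antisymm (CohenLib.isLocalRing_mvPowerSeries_dim_le (Λ := Λ) n 1 hspan) ?_
    have hsurj : Function.Surjective (MvPowerSeries.map (σ := Fin n) (residue Λ)) := by
      intro g
      choose c hc using fun d => residue_surjective (MvPowerSeries.coeff d g)
      exact ⟨c, MvPowerSeries.ext fun d => by rw [MvPowerSeries.coeff_map]; exact hc d⟩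
    have : IsDomain (MvPowerSeries (Fin n) Λ) := NoZeroDivisors.to_isDomain _
    have hp0 : (MvPowerSeries.C (σ := Fin n) (p : Λ)) ≠ 0 := fun h => by
      have h1 := congrArg MvPowerSeries.constantCoeff h
      rw [MvPowerSeries.constantCoeff_C, map_zero] at h1
      exact IsDiscreteValuationRing.not_a_field Λ (by rw [hm, h1]; exact Ideal.span_singleton_eq_bot.2 rfl)
    have h1 := ringKrullDim_succ_le_of_surjective (MvPowerSeries.map (σ := Fin n) (residue Λ)) hsurj
      (mem_nonZeroDivisors_of_ne_zero hp0) (by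
        rw [MvPowerSeries.map_C, (residue_eq_zero_iff _).2 (hm ▸ Ideal.mem_span_singleton_self _), map_zero])
    rw [PSLib.ringKrullDim_eq] at h1
    exact_mod_cast h1

theorem maximalIdeal_ps {p : ℕ} (h : IsCoeff p Λ) (n : ℕ) [IsLocalRing (MvPowerSeries (Fin n) Λ)] :
    maximalIdeal (MvPowerSeries (Fin n) Λ) =
      Ideal.span {(p : MvPowerSeries (Fin n) Λ)} ⊔ PSLib.vars n Λ := by
  haveI := h.isLocalRing
  have hm : maximalIdeal Λ = Ideal.span {(p : Λ)} := by
    obtain ⟨hp, h, _⟩ | ⟨hp, i₁, i₂, hc, hm⟩ := h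
    · subst hp
      simpa using IsLocalRing.isField_iff_maximalIdeal_eq.1 h
    · exact hm
  ext f
  rw [mem_maximalIdeal, mem_nonunits_iff, MvPowerSeries.isUnit_iff_constantCoeff, ← mem_nonunits_iff,
    ← mem_maximalIdeal, hm, Ideal.mem_span_singleton']
  constructor
  · rintro ⟨c, hc⟩
    have e1 : f - MvPowerSeries.C (MvPowerSeries.constantCoeff f) ∈ PSLib.vars n Λ :=
      PSLib.mem_vars_iff.2 (by simp)
    rw [← add_sub_cancel (MvPowerSeries.C (MvPowerSeries.constantCoeff f)) f]
    refine Submodule.add_mem_sup ?_ e1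
    rw [← hc, map_mul, map_natCast]
    exact Ideal.mul_mem_left _ _ (Ideal.mem_span_singleton_self _)
  · intro hf
    obtain ⟨a, ha, b, hb, rfl⟩ := Submodule.mem_sup.1 hf
    obtain ⟨c, rfl⟩ := Ideal.mem_span_singleton'.1 ha
    exact ⟨MvPowerSeries.constantCoeff c, by
      rw [map_add, map_mul, map_natCast, PSLib.mem_vars_iff.1 hb, add_zero]⟩

/-- Coefficient presentations of complete local rings. -/
theorem exists_coeff_ps (R : Type u) [CommRing R] [IsLocalRing R]
    [IsAdicComplete (maximalIdeal R) R] (hfg : (maximalIdeal R).FG) :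
    ∃ (p : ℕ) (Λ : Type u) (_ : CommRing Λ) (n : ℕ) (f : MvPowerSeries (Fin n) Λ →+* R),
      IsCoeff p Λ ∧ CharP (ResidueField R) p ∧ (∀ i, f (MvPowerSeries.X i) ∈ maximalIdeal R) ∧
        maximalIdeal R = Ideal.span (Set.range fun i => f (MvPowerSeries.X i)) ∧
        Function.Surjective f := by
  obtain ⟨Λ, _, σ, hΛ, hσ⟩ := CohenLib.exists_coeff_ring R
  obtain ⟨n, b, hb⟩ := Submodule.fg_iff_exists_fin_generating_family.1 hfg
  have hbm : ∀ i, b i ∈ maximalIdeal R := fun i => hb ▸ Submodule.subset_span ⟨i, rfl⟩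
  letI : Algebra Λ R := σ.toAlgebra
  obtain ⟨ψ, hψ⟩ := PSLib.exists_algHom (R := Λ) (maximalIdeal R) b hbm
  have hmap : (PSLib.vars n Λ).map ψ.toRingHom = maximalIdeal R := by
    rw [PSLib.vars, Ideal.map_span, ← Set.range_comp]
    exact (congrArg (fun t => Ideal.span (Set.range t)) (funext fun i => hψ i)).trans hb
  obtain ⟨p, hp⟩ := CharP.exists (ResidueField R)
  refine ⟨p, Λ, inferInstance, n, ψ.toRingHom, ?_, hp, fun i => ?_, ?_, ?_⟩
  · rcases hΛ with ⟨hF, hu⟩ | ⟨i₁, i₂, hc, q, hq, hm⟩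
    · letI := hF.toField
      have hpf : ∀ q : ℕ, q.Prime → (q : ResidueField R) ≠ 0 := fun q hq => by
        rw [← map_natCast (residue R)]
        exact residue_ne_zero_iff_isUnit _ |>.2 (hu q hq)
      have hp0 : p = 0 := (CharP.char_is_prime_or_zero (ResidueField R) p).resolve_left fun hpp =>
        hpf p hpp (CharP.cast_eq_zero _ p)
      subst hp0
      haveI := CharP.charP_to_charZero (ResidueField R)
      exact .inl ⟨rfl, hF, RingHom.charZero ((residue R).comp σ)⟩
    · have hker : RingHom.ker ((residue R).comp σ) = maximalIdeal Λ :=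
        IsLocalRing.eq_maximalIdeal (RingHom.ker_isMaximal_of_surjective _ hσ)
      have hq0 : (q : ResidueField R) = 0 := by
        have : (q : Λ) ∈ RingHom.ker ((residue R).comp σ) := hker ▸ hm ▸ Ideal.mem_span_singleton_self _
        rwa [RingHom.mem_ker, map_natCast] at this
      have hpq : p = q := (hq.eq_one_or_self_of_dvd p ((CharP.cast_eq_zero_iff (ResidueField R) p q).1 hq0)).resolve_left
        (CharP.char_ne_one (ResidueField R) p)
      subst hpq
      exact .inr ⟨hq, i₁, i₂, hc, hm⟩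
  · show ψ _ ∈ _
    rw [hψ]
    exact hbm i
  · refine hb.symm.trans (congrArg (fun t => Ideal.span (Set.range t)) (funext fun i => (hψ i).symm))
  · refine PSLib.surjective_of_first_order ψ.toRingHom (I := PSLib.vars n Λ) (J := maximalIdeal R)
      hfg (IsAdicComplete.le_jacobson_bot _) hmap.le (le_sup_of_le_left hmap.ge) fun r => ?_
    obtain ⟨c, hc⟩ := hσ (residue R r)
    refine ⟨algebraMap Λ _ c, ?_⟩
    rw [← residue_eq_zero_iff, map_sub, sub_eq_zero]
    show residue R r = residue R (ψ (algebraMap Λ _ c))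
    rw [ψ.commutes]
    exact hc.symm

theorem isCM_of_regular (G : Type u) [CommRing G] [IsRegularLocalRing G] :
    LocCoh.IsCohenMacaulayLocalRing G := by
  haveI := LC.gorenstein_of_isRegularLocalRing (R := G)
  exact LC.isCohenMacaulayLocalRing_of_gorenstein

end Groth.Agent.AvramovLib
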