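import Mathlib
import Groth.Agent.AvramovLib.Ps
import Groth.Agent.CILib.Basic
import Groth.Agent.Synt29.FibrePd
import Groth.Agent.RegExch.Relative
import Groth.Agent.S2201

/-! Complete intersections along flat local maps: the core statements on a regular cover. -/

set_option autoImplicit false
set_option linter.style.haveILetI false
set_option backward.isDefEq.respectTransparency.types false
set_option maxHeartbeats 800000

universe u

open IsLocalRing RingTheory.Sequence Groth.Agent.Synt29

namespace Groth.Agent.AvramovLib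

/-- Dimension formula for flat local maps. -/
theorem dim_eq_add {A B : Type u} [CommRing A] [CommRing B] [IsNoetherianRing A] [IsNoetherianRing B]
    [IsLocalRing A] [IsLocalRing B] [Algebra A B] [IsLocalHom (algebraMap A B)] [Module.Flat A B] :
    ringKrullDim B = ringKrullDim A + ringKrullDim (B ⧸ (maximalIdeal A).map (algebraMap A B)) := by
  set I := (maximalIdeal A).map (algebraMap A B) with hI
  haveI : Nontrivial (B ⧸ I) := Ideal.Quotient.nontrivial_iff.2
    (ne_top_of_le_ne_top (maximalIdeal.isMaximal B).ne_top (map_maximalIdeal_le (algebraMap A B)))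
  haveI : IsLocalRing (B ⧸ I) := IsLocalRing.of_surjective' (Ideal.Quotient.mk I) Ideal.Quotient.mk_surjective
  haveI : (maximalIdeal B).LiesOver (maximalIdeal A) := ⟨(maximalIdeal_comap (algebraMap A B)).symm⟩
  have key := Ideal.height_eq_height_add_of_liesOver_of_hasGoingDown (maximalIdeal A) (maximalIdeal B)
  rw [← hI, RegLoc6.map_maximalIdeal_quot I] at key
  have key' := congrArg (fun x : ℕ∞ => (x : WithBot ℕ∞)) key
  simp only [WithBot.coe_add, maximalIdeal_height_eq_ringKrullDim] at key'
  exact key'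

theorem exists_nat_dim (A : Type u) [CommRing A] [IsNoetherianRing A] [IsLocalRing A] :
    ∃ d : ℕ, ringKrullDim A = (d : WithBot ℕ∞) := by
  have h1 := ringKrullDim_le_spanFinrank_maximalIdeal A
  obtain ⟨x, hx⟩ := WithBot.ne_bot_iff_exists.1 (show ringKrullDim A ≠ ⊥ from
    fun hb => (WithBot.bot_lt_coe (0 : ℕ∞)).not_ge (hb ▸ ringKrullDim_nonneg_of_nontrivial (R := A)))
  rw [← hx] at h1
  have h2 : x ≤ ((maximalIdeal A).spanFinrank : ℕ∞) := WithBot.coe_le_coe.1 (by exact_mod_cast h1)
  obtain ⟨d, rfl⟩ := ENat.ne_top_iff_exists.1 (ne_top_of_le_ne_top (ENat.natCast_ne_top _) h2)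
  exact ⟨d, hx.symm⟩

/-- A flat quotient meets the extended maximal ideal of the base in the product. -/
theorem ker_inf_le {A S B : Type u} [CommRing A] [CommRing S] [CommRing B] [IsLocalRing A] [IsLocalRing S]
    [IsNoetherianRing S] [Algebra A S] [IsLocalHom (algebraMap A S)] [Algebra A B] [Module.Flat A B]
    (g : S →ₐ[A] B) (hg : Function.Surjective g) :
    RingHom.ker g.toRingHom ⊓ (maximalIdeal A).map (algebraMap A S) ≤
      (maximalIdeal A).map (algebraMap A S) * RingHom.ker g.toRingHom := by
  rintro x ⟨hx, hxm⟩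
  letI : Algebra S B := g.toRingHom.toAlgebra
  haveI : IsScalarTower A S B := IsScalarTower.of_algebraMap_eq fun a => (g.commutes a).symm
  have h := mem_mN_of_flat (A := A) (B := S) (RingHom.ker g.toRingHom).subtype Subtype.val_injective
    (Algebra.linearMap S B) (fun s => ⟨fun hs => ⟨⟨s, hs⟩, rfl⟩, fun ⟨t, ht⟩ => ht ▸ t.2⟩) hg
    (x := ⟨x, hx⟩) (by
      show x ∈ (maximalIdeal A).map (algebraMap A S) • (⊤ : Submodule S S)
      rw [smul_eq_mul, Ideal.mul_top]
      exact hxm)
  have h' := Submodule.mem_map_of_mem (f := (RingHom.ker g.toRingHom).subtype) h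
  rw [Submodule.map_smul'', Submodule.map_subtype_top] at h'
  exact h'

variable {R G A B : Type u} [CommRing R] [CommRing G] [CommRing A] [CommRing B] [IsRegularLocalRing R]
  [IsRegularLocalRing G] [IsLocalRing A] [IsLocalRing B] [IsNoetherianRing A] [IsNoetherianRing B]
  [Algebra R G] [IsLocalHom (algebraMap R G)] [Module.Flat R G]
  [IsRegularLocalRing (G ⧸ (maximalIdeal R).map (algebraMap R G))]
  [Algebra A B] [IsLocalHom (algebraMap A B)] [Module.Flat A B]

omit [IsRegularLocalRing G] [IsNoetherianRing A] [IsNoetherianRing B] [IsLocalHom (algebraMap R G)]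
  [Module.Flat R G] [IsRegularLocalRing (G ⧸ (maximalIdeal R).map (algebraMap R G))] [IsLocalRing B]
  [IsLocalHom (algebraMap A B)] [Module.Flat A B] in
theorem map_mR (π : R →+* A) (q : G →+* B) (hπ : Function.Surjective π)
    (hc : q.comp (algebraMap R G) = (algebraMap A B).comp π) :
    ((maximalIdeal R).map (algebraMap R G)).map q = (maximalIdeal A).map (algebraMap A B) := by
  rw [Ideal.map_map, hc, ← Ideal.map_map, map_maximalIdeal_of_surjective π hπ]

/-- The map of closed fibres. -/
noncomputable def fibMap (π : R →+* A) (q : G →+* B) (hπ : Function.Surjective π)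
    (hc : q.comp (algebraMap R G) = (algebraMap A B).comp π) :
    (G ⧸ (maximalIdeal R).map (algebraMap R G)) →+* B ⧸ (maximalIdeal A).map (algebraMap A B) :=
  Ideal.quotientMap _ q (Ideal.map_le_iff_le_comap.1 (map_mR π q hπ hc).le)

omit [IsRegularLocalRing G] [IsNoetherianRing A] [IsNoetherianRing B] [IsLocalHom (algebraMap R G)]
  [Module.Flat R G] [IsRegularLocalRing (G ⧸ (maximalIdeal R).map (algebraMap R G))] [IsLocalRing B]
  [IsLocalHom (algebraMap A B)] [Module.Flat A B] in
theorem fibMap_surjective (π : R →+* A) (q : G →+* B) (hπ : Function.Surjective π)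
    (hq : Function.Surjective q) (hc : q.comp (algebraMap R G) = (algebraMap A B).comp π) :
    Function.Surjective (fibMap π q hπ hc) := fun z => by
  obtain ⟨b, rfl⟩ := Ideal.Quotient.mk_surjective z
  obtain ⟨g, rfl⟩ := hq b
  exact ⟨Ideal.Quotient.mk _ g, rfl⟩

omit [IsRegularLocalRing G] [IsNoetherianRing A] [IsNoetherianRing B] [IsLocalHom (algebraMap R G)]
  [Module.Flat R G] [IsRegularLocalRing (G ⧸ (maximalIdeal R).map (algebraMap R G))] [IsLocalRing B]
  [IsLocalHom (algebraMap A B)] [Module.Flat A B] in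
theorem ker_fibMap (π : R →+* A) (q : G →+* B) (hπ : Function.Surjective π)
    (hq : Function.Surjective q) (hc : q.comp (algebraMap R G) = (algebraMap A B).comp π) :
    RingHom.ker (fibMap π q hπ hc) = (RingHom.ker q).map (Ideal.Quotient.mk _) := by
  refine le_antisymm (fun z hz => ?_) (Ideal.map_le_iff_le_comap.2 fun x hx => ?_)
  · obtain ⟨g, rfl⟩ := Ideal.Quotient.mk_surjective z
    have hg : q g ∈ ((maximalIdeal R).map (algebraMap R G)).map q := by
      rw [map_mR π q hπ hc]
      exact Ideal.Quotient.eq_zero_iff_mem.1 hz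
    obtain ⟨p, hp, hpg⟩ := (Ideal.mem_map_iff_of_surjective q hq).1 hg
    rw [show Ideal.Quotient.mk ((maximalIdeal R).map (algebraMap R G)) g = Ideal.Quotient.mk _ (g - p) by
      rw [Ideal.Quotient.eq]; simpa using hp]
    exact Ideal.mem_map_of_mem _ (by rw [RingHom.mem_ker, map_sub, hpg, sub_self])
  · show Ideal.Quotient.mk _ (q x) = 0
    rw [show q x = 0 from hx, map_zero]

/-- Base and closed fibre complete intersections give a complete intersection. -/
theorem ciKer_of_fibre (π : R →+* A) (q : G →+* B) (hπ : Function.Surjective π)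
    (hq : Function.Surjective q) (hc : q.comp (algebraMap R G) = (algebraMap A B).comp π)
    (hA : CIKer π) (hF : CIKer (fibMap π q hπ hc)) : CIKer q := by
  obtain ⟨a, k, hk, hdA⟩ := hA
  obtain ⟨c, kb, hkb, hdF⟩ := hF
  have hlift : ∀ j, ∃ z ∈ RingHom.ker q, Ideal.Quotient.mk _ z = kb j := fun j => by
    have : kb j ∈ (RingHom.ker q).map (Ideal.Quotient.mk ((maximalIdeal R).map (algebraMap R G))) := by
      rw [← ker_fibMap π q hπ hq hc, hkb]
      exact Ideal.subset_span ⟨j, rfl⟩
    exact (Ideal.mem_map_iff_of_surjective _ Ideal.Quotient.mk_surjective).1 this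
  choose z hz hzk using hlift
  refine ⟨a + c, Fin.append (fun i => algebraMap R G (k i)) z, ?_, ?_⟩
  · set T := Ideal.span (Set.range (Fin.append (fun i => algebraMap R G (k i)) z))
    have hT₁ : (RingHom.ker π).map (algebraMap R G) ≤ T := by
      rw [hk, Ideal.map_span, Ideal.span_le]
      rintro _ ⟨_, ⟨i, rfl⟩, rfl⟩
      exact Ideal.subset_span ⟨Fin.castAdd c i, by simp⟩
    have hIq : (RingHom.ker π).map (algebraMap R G) ≤ RingHom.ker q := by
      rw [Ideal.map_le_iff_le_comap]
      intro r hr
      show q (algebraMap R G r) = 0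
      rw [← RingHom.comp_apply, hc, RingHom.comp_apply, show π r = 0 from hr, map_zero]
    refine le_antisymm ?_ ?_
    · refine Submodule.le_of_le_smul_of_le_jacobson_bot (RingHom.ker q).fg_of_isNoetherianRing
        ((map_maximalIdeal_le (algebraMap R G)).trans (maximalIdeal_le_jacobson ⊥)) ?_
      intro x hx
      have hxb : Ideal.Quotient.mk ((maximalIdeal R).map (algebraMap R G)) x ∈
          T.map (Ideal.Quotient.mk _) := by
        have h1 : Ideal.Quotient.mk ((maximalIdeal R).map (algebraMap R G)) x ∈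
            RingHom.ker (fibMap π q hπ hc) := by
          rw [ker_fibMap π q hπ hq hc]
          exact Ideal.mem_map_of_mem _ hx
        rw [hkb] at h1
        refine (Ideal.span_le.2 ?_) h1
        rintro _ ⟨j, rfl⟩
        rw [SetLike.mem_coe, ← hzk j]
        exact Ideal.mem_map_of_mem _ (Ideal.subset_span ⟨Fin.natAdd a j, by simp⟩)
      obtain ⟨t, ht, htx⟩ := (Ideal.mem_map_iff_of_surjective _ Ideal.Quotient.mk_surjective).1 hxb
      rw [Ideal.Quotient.eq] at htx
      have htq : t ∈ RingHom.ker q := by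
        refine (Ideal.span_le.2 ?_) ht
        rintro _ ⟨l, rfl⟩
        induction l using Fin.addCases with
        | left i =>
          rw [Fin.append_left]
          exact hIq (Ideal.mem_map_of_mem _ (hk ▸ Ideal.subset_span ⟨i, rfl⟩))
        | right j => rw [Fin.append_right]; exact hz j
      -- work in `S = G / (ker π) G`
      let IG := (RingHom.ker π).map (algebraMap R G)
      letI : Algebra A (G ⧸ IG) := ((Ideal.quotientMap IG (algebraMap R G) Ideal.le_comap_map).comp
        (RingHom.quotientKerEquivOfSurjective hπ).symm.toRingHom).toAlgebra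
      have halg : ∀ r, algebraMap A (G ⧸ IG) (π r) = Ideal.Quotient.mk IG (algebraMap R G r) := fun r => by
        show Ideal.quotientMap IG (algebraMap R G) Ideal.le_comap_map ((RingHom.quotientKerEquivOfSurjective hπ).symm (π r)) = _
        rw [← RingHom.quotientKerEquivOfSurjective_apply_mk hπ r, RingEquiv.symm_apply_apply]
        rfl
      haveI : Nontrivial (G ⧸ IG) := Ideal.Quotient.nontrivial_iff.2
        (ne_top_of_le_ne_top (RingHom.ker_ne_top q) hIq)
      haveI : IsLocalRing (G ⧸ IG) := IsLocalRing.of_surjective' (Ideal.Quotient.mk IG) Ideal.Quotient.mk_surjective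
      have hPS : (maximalIdeal A).map (algebraMap A (G ⧸ IG)) =
          ((maximalIdeal R).map (algebraMap R G)).map (Ideal.Quotient.mk IG) := by
        rw [← map_maximalIdeal_of_surjective π hπ, Ideal.map_map, Ideal.map_map]
        exact congrArg (fun f => Ideal.map f (maximalIdeal R)) (RingHom.ext halg)
      haveI : IsLocalHom (algebraMap A (G ⧸ IG)) := by
        refine ((local_hom_TFAE _).out 0 2).2 ?_
        rw [hPS, ← map_maximalIdeal_of_surjective (Ideal.Quotient.mk IG) Ideal.Quotient.mk_surjective]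
        exact Ideal.map_mono (map_maximalIdeal_le (algebraMap R G))
      let g : (G ⧸ IG) →ₐ[A] B :=
        { Ideal.Quotient.lift IG q (fun r hr => hIq hr) with
          commutes' := fun a => by
            obtain ⟨r, rfl⟩ := hπ a
            rw [halg]
            exact RingHom.congr_fun hc r }
      have hgs : Function.Surjective g := fun b => by
        obtain ⟨x, rfl⟩ := hq b
        exact ⟨Ideal.Quotient.mk IG x, rfl⟩
      have hy : Ideal.Quotient.mk IG (x - t) ∈ (maximalIdeal A).map (algebraMap A (G ⧸ IG)) *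
          RingHom.ker g.toRingHom := by
        refine ker_inf_le g hgs ⟨?_, ?_⟩
        · show q (x - t) = 0
          rw [map_sub, show q x = 0 from hx, show q t = 0 from htq, sub_self]
        · rw [SetLike.mem_coe, hPS, ← neg_mem_iff, ← map_neg, neg_sub]
          exact Ideal.mem_map_of_mem _ htx
      have hker : RingHom.ker g.toRingHom = (RingHom.ker q).map (Ideal.Quotient.mk IG) := by
        refine le_antisymm (fun y hy => ?_) (Ideal.map_le_iff_le_comap.2 fun w hw => hw)
        obtain ⟨w, rfl⟩ := Ideal.Quotient.mk_surjective y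
        exact Ideal.mem_map_of_mem _ hy
      rw [hPS, hker, ← Ideal.map_mul, Ideal.mem_quotient_iff_mem_sup] at hy
      obtain ⟨u, hu, v, hv, huv⟩ := Submodule.mem_sup.1 hy
      rw [show x = (t + v) + u by linear_combination -huv]
      exact Submodule.add_mem_sup (add_mem ht (hT₁ hv)) hu
    · rw [Ideal.span_le]
      rintro _ ⟨l, rfl⟩
      induction l using Fin.addCases with
      | left i =>
        rw [Fin.append_left]
        exact hIq (Ideal.mem_map_of_mem _ (hk ▸ Ideal.subset_span ⟨i, rfl⟩))
      | right j => rw [Fin.append_right]; exact hz j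
  · rw [dim_eq_add (A := R) (B := G), dim_eq_add (A := A) (B := B), hdA, hdF]
    push_cast
    abel

/-- A complete intersection total space gives complete intersection base and closed fibre. -/
theorem ciKer_base_and_fibre (π : R →+* A) (q : G →+* B) (hπ : Function.Surjective π)
    (hq : Function.Surjective q) (hc : q.comp (algebraMap R G) = (algebraMap A B).comp π)
    (hB : CIKer q) : CIKer π ∧ CIKer (fibMap π q hπ hc) := by
  let I := RingHom.ker π
  let J := RingHom.ker q
  have hIJ : I.map (algebraMap R G) ≤ J := by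
    rw [Ideal.map_le_iff_le_comap]
    intro r hr
    show q (algebraMap R G r) = 0
    rw [← RingHom.comp_apply, hc, RingHom.comp_apply, show π r = 0 from hr, map_zero]
  let f₀ : (R ⧸ I) →+* G ⧸ J := Ideal.quotientMap J (algebraMap R G) (Ideal.map_le_iff_le_comap.1 hIJ)
  letI : Algebra (R ⧸ I) (G ⧸ J) := f₀.toAlgebra
  haveI : IsScalarTower R (R ⧸ I) (G ⧸ J) := IsScalarTower.of_algebraMap_eq fun r => rfl
  let eA := RingHom.quotientKerEquivOfSurjective hπ
  let eB := RingHom.quotientKerEquivOfSurjective hq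
  have hf₀ : f₀ = (eB.symm.toRingHom.comp (algebraMap A B)).comp eA.toRingHom := by
    refine Ideal.Quotient.ringHom_ext (RingHom.ext fun r => ?_)
    show f₀ (Ideal.Quotient.mk I r) = eB.symm (algebraMap A B (eA (Ideal.Quotient.mk I r)))
    rw [RingHom.quotientKerEquivOfSurjective_apply_mk, ← RingHom.comp_apply (algebraMap A B), ← hc,
      RingHom.comp_apply, ← RingHom.quotientKerEquivOfSurjective_apply_mk hq, RingEquiv.symm_apply_apply]
    rfl
  have hflat : Module.Flat (R ⧸ I) (G ⧸ J) := by
    have h : f₀.Flat := by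
      rw [hf₀]
      exact RingHom.Flat.comp (RingHom.Flat.of_bijective eA.bijective)
        (RingHom.Flat.comp (RingHom.flat_algebraMap_iff.2 inferInstance) (RingHom.Flat.of_bijective eB.symm.bijective))
    exact h
  have hd : Subsingleton (DRing.Tor (R ⧸ I) (0 + 1) (G ⧸ J)
      ((R ⧸ I) ⧸ (maximalIdeal R).map (Ideal.Quotient.mk I))) :=
    RegExch.torDimLE_of_flat (A := R ⧸ I) (M := G ⧸ J) 0 _ (0 + 1) (Nat.lt_succ_self 0)
  obtain ⟨rs₀, hreg₀, hker₀⟩ := (ciKer_iff_regular q hq).1 hB
  obtain ⟨⟨rs, hrs, hreg⟩, rs', hrs', hreg'⟩ := S2201.forward I J (RingHom.ker_ne_top π) (RingHom.ker_ne_top q)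
    hIJ ⟨rs₀, hker₀.symm, hreg₀⟩ 0 hd
  refine ⟨(ciKer_iff_regular π hπ).2 ⟨rs, hreg, hrs.symm⟩, ?_⟩
  let IG := I.map (algebraMap R G)
  haveI : Nontrivial (G ⧸ IG) := Ideal.Quotient.nontrivial_iff.2
    (ne_top_of_le_ne_top (RingHom.ker_ne_top q) hIJ)
  haveI : IsLocalRing (G ⧸ IG) := IsLocalRing.of_surjective' (Ideal.Quotient.mk IG) Ideal.Quotient.mk_surjective
  let fibS := (maximalIdeal R).map (algebraMap R G)
  -- dimension of `G / IG`
  have hdS : ringKrullDim (G ⧸ IG) = ringKrullDim A + ringKrullDim (G ⧸ fibS) := by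
    haveI : IsLocalRing (R ⧸ I) := eA.symm.isLocalRing
    have halg : (algebraMap (R ⧸ I) (G ⧸ IG)).comp (Ideal.Quotient.mk I) =
        (Ideal.Quotient.mk IG).comp (algebraMap R G) := RingHom.ext fun _ => rfl
    have hmap : (maximalIdeal (R ⧸ I)).map (algebraMap (R ⧸ I) (G ⧸ IG)) = fibS.map (Ideal.Quotient.mk IG) := by
      rw [← map_maximalIdeal_of_surjective (Ideal.Quotient.mk I) Ideal.Quotient.mk_surjective, Ideal.map_map,
        Ideal.map_map, halg]
    haveI : IsLocalHom (algebraMap (R ⧸ I) (G ⧸ IG)) := by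
      refine ((local_hom_TFAE _).out 0 2).2 ?_
      rw [hmap, ← map_maximalIdeal_of_surjective (Ideal.Quotient.mk IG) Ideal.Quotient.mk_surjective]
      exact Ideal.map_mono (map_maximalIdeal_le (algebraMap R G))
    haveI : Module.Flat (R ⧸ I) (G ⧸ IG) := Module.Flat.of_linearEquiv
      (Algebra.TensorProduct.quotIdealMapEquivQuotTensor G I).toLinearEquiv
    rw [dim_eq_add (A := R ⧸ I) (B := G ⧸ IG), ringKrullDim_eq_of_ringEquiv eA]
    congr 1
    exact ringKrullDim_eq_of_ringEquiv ((Ideal.quotEquivOfEq hmap).trans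
      (DoubleQuot.quotQuotEquivQuotOfLE (Ideal.map_mono (le_maximalIdeal (RingHom.ker_ne_top π)))))
  -- cutting `G / IG` by `rs'`
  have hlen : ringKrullDim B + (rs'.length : ℕ) = ringKrullDim (G ⧸ IG) := by
    have h := Module.supportDim_add_length_eq_supportDim_of_isRegular rs' hreg'
    rw [Module.supportDim_self_eq_ringKrullDim, Module.supportDim_eq_of_equiv (Submodule.quotEquivOfEq _ _
      (show (Ideal.ofList rs' • ⊤ : Submodule (G ⧸ IG) (G ⧸ IG)) = J.map (Ideal.Quotient.mk IG) by
        rw [Ideal.smul_eq_mul, Ideal.mul_top, hrs'])), Module.supportDim_quotient_eq_ringKrullDim,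
      ringKrullDim_eq_of_ringEquiv ((DoubleQuot.quotQuotEquivQuotOfLE hIJ).trans eB)] at h
    exact h
  choose z hzJ hzr using fun j => (Ideal.mem_map_iff_of_surjective (Ideal.Quotient.mk IG)
    Ideal.Quotient.mk_surjective).1 (hrs' ▸ Ideal.subset_span (List.get_mem rs' j) : rs'.get j ∈ J.map (Ideal.Quotient.mk IG))
  refine ⟨rs'.length, fun j => Ideal.Quotient.mk fibS (z j), ?_, ?_⟩
  · rw [ker_fibMap π q hπ hq hc]
    refine le_antisymm ?_ (Ideal.span_le.2 (Set.range_subset_iff.2 fun j => Ideal.mem_map_of_mem _ (hzJ j)))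
    rw [Ideal.map_le_iff_le_comap]
    intro x hx
    have hx' : Ideal.Quotient.mk IG x ∈ (Ideal.span (Set.range z)).map (Ideal.Quotient.mk IG) := by
      have h1 : Ideal.Quotient.mk IG x ∈ Ideal.ofList rs' := hrs' ▸ Ideal.mem_map_of_mem _ hx
      rw [Ideal.map_span, ← Set.range_comp]
      refine (Ideal.span_le.2 ?_) h1
      intro r hr
      obtain ⟨j, rfl⟩ := List.get_of_mem hr
      exact Ideal.subset_span ⟨j, hzr j⟩
    rw [Ideal.mem_quotient_iff_mem_sup] at hx'
    obtain ⟨u, hu, v, hv, rfl⟩ := Submodule.mem_sup.1 hx'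
    rw [Ideal.mem_comap, map_add]
    refine add_mem ?_ ?_
    · have := Ideal.mem_map_of_mem (Ideal.Quotient.mk fibS) hu
      rw [Ideal.map_span, ← Set.range_comp] at this
      exact this
    · rw [Ideal.Quotient.eq_zero_iff_mem.2 ((Ideal.map_mono (le_maximalIdeal (RingHom.ker_ne_top π)) :
        IG ≤ fibS) hv)]
      exact zero_mem _
  · rw [hdS, dim_eq_add (A := A) (B := B)] at hlen
    obtain ⟨a, ha⟩ := exists_nat_dim A
    obtain ⟨f, hf⟩ := exists_nat_dim (G ⧸ fibS)
    haveI : Nontrivial (B ⧸ (maximalIdeal A).map (algebraMap A B)) := Ideal.Quotient.nontrivial_iff.2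
      (ne_top_of_le_ne_top (maximalIdeal.isMaximal B).ne_top (map_maximalIdeal_le (algebraMap A B)))
    haveI : IsLocalRing (B ⧸ (maximalIdeal A).map (algebraMap A B)) :=
      IsLocalRing.of_surjective' (Ideal.Quotient.mk _) Ideal.Quotient.mk_surjective
    obtain ⟨b, hb⟩ := exists_nat_dim (B ⧸ (maximalIdeal A).map (algebraMap A B))
    rw [ha, hb, hf] at hlen
    show ringKrullDim (G ⧸ fibS) = _
    rw [hb, hf]
    norm_cast at hlen ⊢
    omega

end Groth.Agent.AvramovLib
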