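import Mathlib
import Groth.Agent.CohenLib.Structure
import Groth.Agent.CoeffField.Smooth

/-! Lifting maps from coefficient rings along surjections of complete local rings. -/

set_option autoImplicit false
set_option linter.style.haveILetI false

universe u

open IsLocalRing

namespace Groth.Agent.AvramovLib

/-- `Λ` lifts along square-zero surjections between quotients of `G` by open ideals. -/
def SqLift (Λ G : Type u) [CommRing Λ] [CommRing G] [IsLocalRing G] : Prop :=
  ∀ (I J : Ideal G) (hIJ : I ≤ J) (n : ℕ), 1 ≤ n → maximalIdeal G ^ n ≤ I → J ^ 2 ≤ I →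
    ∀ f : Λ →+* G ⧸ J, ∃ g : Λ →+* G ⧸ I, (Ideal.Quotient.factor hIJ).comp g = f

theorem ker_factor_sq {G : Type u} [CommRing G] {I J : Ideal G} (hIJ : I ≤ J) (h : J ^ 2 ≤ I) :
    RingHom.ker (Ideal.Quotient.factor hIJ) ^ 2 = ⊥ := by
  rw [Ideal.Quotient.factor_ker, ← Ideal.map_pow, Ideal.map_eq_bot_iff_le_ker, Ideal.mk_ker]
  exact h

theorem sqLift_of_cohen (Λ : Type u) [CommRing Λ] [IsDomain Λ] [IsDiscreteValuationRing Λ]
    [IsAdicComplete (maximalIdeal Λ) Λ] {p : ℕ} (hp : p.Prime)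
    (hm : maximalIdeal Λ = Ideal.span {(p : Λ)}) (G : Type u) [CommRing G] [IsLocalRing G]
    (hpG : (p : G) ∈ maximalIdeal G) : SqLift Λ G := by
  intro I J hIJ n hn hnI hJ f
  refine CohenLib.exists_lift_step Λ hp hm _ (Ideal.Quotient.factor_surjective hIJ)
    (ker_factor_sq hIJ hJ) (N := n) hn ?_ f
  rw [← map_natCast (Ideal.Quotient.mk I), ← map_pow, Ideal.Quotient.eq_zero_iff_mem]
  exact hnI (Ideal.pow_mem_pow hpG n)

theorem sqLift_of_field (k : Type u) [Field k] [CharZero k] (G : Type u) [CommRing G] [IsLocalRing G]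
    (hu : ∀ n : ℕ, n ≠ 0 → IsUnit (n : G)) : SqLift k G := by
  intro I J hIJ n _ _ hJ f
  have hq : ∀ z : nonZeroDivisors ℤ, IsUnit (Int.castRingHom G z) := by
    rintro ⟨z, hz⟩
    have hz0 : z ≠ 0 := nonZeroDivisors.ne_zero hz
    show IsUnit ((z : ℤ) : G)
    rcases Int.natAbs_eq z with h | h <;> rw [h] <;>
      simp only [Int.cast_neg, Int.cast_natCast, IsUnit.neg_iff] <;>
      exact hu _ (Int.natAbs_ne_zero.2 hz0)
  letI : Algebra ℚ G := (IsLocalization.lift hq).toAlgebra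
  haveI : Algebra.FormallySmooth ℚ k := CoeffField.formallySmooth_of_perfectField ℚ k
  let π : (G ⧸ I) →ₐ[ℚ] G ⧸ J :=
    { Ideal.Quotient.factor hIJ with
      commutes' := fun r => RingHom.congr_fun
        (Subsingleton.elim ((Ideal.Quotient.factor hIJ).comp (algebraMap ℚ (G ⧸ I)))
          (algebraMap ℚ (G ⧸ J))) r }
  let fa : k →ₐ[ℚ] G ⧸ J :=
    { f with
      commutes' := fun r => RingHom.congr_fun
        (Subsingleton.elim (f.comp (algebraMap ℚ k)) (algebraMap ℚ (G ⧸ J))) r }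
  have hπ : Function.Surjective π := Ideal.Quotient.factor_surjective hIJ
  have hnil : IsNilpotent (RingHom.ker (π : (G ⧸ I) →+* G ⧸ J)) := ⟨2, ker_factor_sq hIJ hJ⟩
  exact ⟨(Algebra.FormallySmooth.liftOfSurjective fa π hπ hnil).toRingHom, RingHom.ext fun x =>
    Algebra.FormallySmooth.liftOfSurjective_apply fa π hπ hnil x⟩

/-- A map into `G ⧸ (I ⊓ J)` from compatible maps into `G ⧸ I` and `G ⧸ J`. -/
theorem exists_inf_hom {Λ G : Type u} [CommRing Λ] [CommRing G] {I J : Ideal G} (g : Λ →+* G ⧸ I)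
    (f : Λ →+* G ⧸ J) (h : (Ideal.Quotient.factor le_sup_left : G ⧸ I →+* G ⧸ I ⊔ J).comp g =
      (Ideal.Quotient.factor le_sup_right).comp f) :
    ∃ e : Λ →+* G ⧸ (I ⊓ J), (Ideal.Quotient.factor inf_le_left).comp e = g ∧
      (Ideal.Quotient.factor inf_le_right).comp e = f := by
  let Φ : G ⧸ (I ⊓ J) →+* (G ⧸ I) × (G ⧸ J) :=
    (Ideal.Quotient.factor inf_le_left).prod (Ideal.Quotient.factor inf_le_right)
  have hΦ : Function.Injective Φ := by
    refine (injective_iff_map_eq_zero Φ).2 fun z hz => ?_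
    obtain ⟨a, rfl⟩ := Ideal.Quotient.mk_surjective z
    have h1 : Ideal.Quotient.mk I a = 0 := congrArg Prod.fst hz
    have h2 : Ideal.Quotient.mk J a = 0 := congrArg Prod.snd hz
    rw [Ideal.Quotient.eq_zero_iff_mem] at h1 h2 ⊢
    exact ⟨h1, h2⟩
  have hex : ∀ x, ∃ y, Φ y = (g x, f x) := by
    intro x
    obtain ⟨a, ha⟩ := Ideal.Quotient.mk_surjective (g x)
    obtain ⟨b, hb⟩ := Ideal.Quotient.mk_surjective (f x)
    have hab := RingHom.congr_fun h x
    rw [RingHom.comp_apply, RingHom.comp_apply, ← ha, ← hb, Ideal.Quotient.factor_mk,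
      Ideal.Quotient.factor_mk, Ideal.Quotient.eq] at hab
    obtain ⟨u, hu, v, hv, huv⟩ := Submodule.mem_sup.1 hab
    refine ⟨Ideal.Quotient.mk _ (a - u), Prod.ext ?_ ?_⟩
    · show Ideal.Quotient.mk I (a - u) = g x
      rw [← ha, Ideal.Quotient.eq]
      simpa using hu
    · show Ideal.Quotient.mk J (a - u) = f x
      rw [← hb, Ideal.Quotient.eq, show a - u - b = v by linear_combination -huv]
      exact hv
  choose e he using hex
  let E : Λ →+* G ⧸ (I ⊓ J) :=
    { toFun := e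
      map_one' := hΦ (by rw [he, map_one, map_one, map_one]; rfl)
      map_mul' := fun x y => hΦ (by simp only [he, map_mul]; rfl)
      map_zero' := hΦ (by rw [he, map_zero, map_zero, map_zero]; rfl)
      map_add' := fun x y => hΦ (by simp only [he, map_add]; rfl) }
  exact ⟨E, RingHom.ext fun x => congrArg Prod.fst (he x), RingHom.ext fun x => congrArg Prod.snd (he x)⟩

/-- Lifting along a surjection of complete Noetherian local rings. -/
theorem exists_lift {Λ G : Type u} [CommRing Λ] [CommRing G] [IsLocalRing G] [IsNoetherianRing G]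
    [IsAdicComplete (maximalIdeal G) G] (hL : SqLift Λ G) (K : Ideal G) (hK : K ≠ ⊤)
    (f : Λ →+* G ⧸ K) : ∃ g : Λ →+* G, (Ideal.Quotient.mk K).comp g = f := by
  let m := maximalIdeal G
  let Q : (n : ℕ) → (Λ →+* G ⧸ m ^ (n + 1)) → Prop := fun n g =>
    (Ideal.Quotient.factor (le_sup_right : m ^ (n + 1) ≤ K ⊔ m ^ (n + 1))).comp g =
      (Ideal.Quotient.factor le_sup_left).comp f
  have hm0 : K ⊔ m ^ (0 + 1) ≤ m ^ (0 + 1) := by
    rw [zero_add, pow_one]
    exact sup_le (le_maximalIdeal hK) le_rfl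
  let g0 : Λ →+* G ⧸ m ^ (0 + 1) :=
    (Ideal.Quotient.factor hm0).comp ((Ideal.Quotient.factor le_sup_left).comp f)
  have hg0 : Q 0 g0 := by
    refine RingHom.ext fun x => ?_
    obtain ⟨a, ha⟩ := Ideal.Quotient.mk_surjective (f x)
    simp only [g0, RingHom.comp_apply, ← ha, Ideal.Quotient.factor_mk]
  have step : ∀ (n : ℕ) (g : {g : Λ →+* G ⧸ m ^ (n + 1) // Q n g}),
      ∃ g' : {g' : Λ →+* G ⧸ m ^ (n + 1 + 1) // Q (n + 1) g'},
        (Ideal.Quotient.factor (Ideal.pow_le_pow_right (Nat.le_succ (n + 1)))).comp g'.1 = g.1 := by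
    rintro n ⟨g, hg⟩
    have hsup : m ^ (n + 1) ⊔ (K ⊔ m ^ (n + 1 + 1)) = K ⊔ m ^ (n + 1) := by
      rw [sup_left_comm, sup_eq_left.2
        (show m ^ (n + 1 + 1) ≤ m ^ (n + 1) from Ideal.pow_le_pow_right (Nat.le_succ (n + 1)))]
    obtain ⟨e, he₁, he₂⟩ := exists_inf_hom g
      ((Ideal.Quotient.factor (le_sup_left : K ≤ K ⊔ m ^ (n + 1 + 1))).comp f) (by
        refine RingHom.ext fun x => ?_
        obtain ⟨a, ha⟩ := Ideal.Quotient.mk_surjective (g x)
        obtain ⟨b, hb⟩ := Ideal.Quotient.mk_surjective (f x)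
        have := RingHom.congr_fun hg x
        simp only [RingHom.comp_apply, ← ha, ← hb, Ideal.Quotient.factor_mk, Ideal.Quotient.eq] at this ⊢
        rwa [hsup])
    have hle : m ^ (n + 1 + 1) ≤ m ^ (n + 1) ⊓ (K ⊔ m ^ (n + 1 + 1)) :=
      le_inf (Ideal.pow_le_pow_right (Nat.le_succ _)) le_sup_right
    obtain ⟨g', hg'⟩ := hL _ _ hle (n + 1 + 1) (by omega) le_rfl
      ((Ideal.pow_right_mono inf_le_left 2).trans (by rw [← pow_mul]; exact Ideal.pow_le_pow_right (by omega))) e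
    refine ⟨⟨g', ?_⟩, ?_⟩
    · show (Ideal.Quotient.factor _).comp g' = _
      rw [← he₂, ← hg', ← RingHom.comp_assoc, Ideal.Quotient.factor_comp]
    · show (Ideal.Quotient.factor _).comp g' = g
      rw [← he₁, ← hg', ← RingHom.comp_assoc, Ideal.Quotient.factor_comp]
  choose st hst using step
  let F : (n : ℕ) → {g : Λ →+* G ⧸ m ^ (n + 1) // Q n g} := fun n =>
    Nat.rec ⟨g0, hg0⟩ (fun k g => st k g) n
  have hF : ∀ {i j : ℕ} (hij : i ≤ j),
      (Ideal.Quotient.factor (Ideal.pow_le_pow_right (Nat.succ_le_succ hij) :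
        m ^ (j + 1) ≤ m ^ (i + 1))).comp (F j).1 = (F i).1 := by
    intro i j hij
    induction j, hij using Nat.le_induction with
    | base => exact RingHom.ext fun x => by simp [Ideal.Quotient.factor_eq]
    | succ j hij ih =>
      rw [← ih]
      conv_rhs => rw [← hst j (F j)]
      rw [← RingHom.comp_assoc, Ideal.Quotient.factor_comp]
  let Gn : (n : ℕ) → (Λ →+* G ⧸ m ^ n) := fun n =>
    (Ideal.Quotient.factor (Ideal.pow_le_pow_right (Nat.le_succ n))).comp (F n).1
  have hG : ∀ {i j : ℕ} (hle : i ≤ j), (Ideal.Quotient.factorPow m hle).comp (Gn j) = Gn i := by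
    intro i j hle
    show _ = (Ideal.Quotient.factor _).comp (F i).1
    rw [← hF hle, ← RingHom.comp_assoc, ← RingHom.comp_assoc, Ideal.Quotient.factor_comp,
      Ideal.Quotient.factor_comp]
  refine ⟨IsAdicComplete.liftRingHom m Gn hG, RingHom.ext fun c => ?_⟩
  haveI : Nontrivial (G ⧸ K) := Ideal.Quotient.nontrivial_iff.2 hK
  haveI : IsLocalRing (G ⧸ K) := IsLocalRing.of_surjective' (Ideal.Quotient.mk K) Ideal.Quotient.mk_surjective
  obtain ⟨b, hb⟩ := Ideal.Quotient.mk_surjective (f c)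
  rw [RingHom.comp_apply, ← hb, Ideal.Quotient.eq, ← Ideal.Quotient.eq_zero_iff_mem, ← Ideal.mem_bot,
    ← Ideal.iInf_pow_eq_bot_of_isLocalRing (maximalIdeal (G ⧸ K)) (maximalIdeal.isMaximal _).ne_top,
    Submodule.mem_iInf]
  intro n
  rw [← map_maximalIdeal_of_surjective (Ideal.Quotient.mk K) Ideal.Quotient.mk_surjective, ← Ideal.map_pow,
    Ideal.mem_quotient_iff_mem_sup, sup_comm]
  obtain ⟨a, ha⟩ := Ideal.Quotient.mk_surjective ((F n).1 c)
  have h1 := IsAdicComplete.mk_liftRingHom m Gn hG n c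
  rw [show Gn n c = Ideal.Quotient.factor (Ideal.pow_le_pow_right (Nat.le_succ n)) ((F n).1 c) from rfl,
    ← ha, Ideal.Quotient.factor_mk, Ideal.Quotient.eq] at h1
  have h2 := RingHom.congr_fun (F n).2 c
  simp only [RingHom.comp_apply, ← ha, ← hb, Ideal.Quotient.factor_mk, Ideal.Quotient.eq] at h2
  rw [← sub_add_sub_cancel _ a b]
  exact add_mem (Submodule.mem_sup_right h1) (sup_le_sup_left (Ideal.pow_le_pow_right (Nat.le_succ n)) K h2)

end Groth.Agent.AvramovLib
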