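import Mathlib
import Groth.Agent.AvramovLib.Factor
import Groth.Agent.AvramovLib.Core
import Groth.Agent.S9231

/-! Avramov's theorem for flat local maps. -/

set_option autoImplicit false
set_option linter.style.haveILetI false
set_option maxHeartbeats 800000

universe u

open IsLocalRing Groth.Agent.CILib

namespace Groth.Agent.AvramovLib

theorem isCI_of_completion_equiv {A A' : Type u} [CommRing A] [CommRing A'] [IsLocalRing A] [IsLocalRing A']
    (e : AdicCompletion (maximalIdeal A) A ≃+* AdicCompletion (maximalIdeal A') A')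
    (h : Pi1.IsCompleteIntersection A) : Pi1.IsCompleteIntersection A' := by
  obtain ⟨B, i₁, i₂, rs, h1, h2, ⟨f⟩⟩ := h
  exact ⟨B, i₁, i₂, rs, h1, h2, ⟨e.symm.trans f⟩⟩

theorem completion_equiv_of_ringEquiv {A A' : Type u} [CommRing A] [CommRing A'] [IsLocalRing A] [IsLocalRing A']
    [IsNoetherianRing A] [IsNoetherianRing A'] (e : A ≃+* A') :
    Nonempty (AdicCompletion (maximalIdeal A) A ≃+* AdicCompletion (maximalIdeal A') A') := by
  obtain ⟨τ, hτ, hker⟩ := exists_completion_surjection e.toRingHom e.surjective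
  rw [(RingHom.injective_iff_ker_eq_bot e.toRingHom).1 e.injective, Ideal.map_bot] at hker
  exact ⟨RingEquiv.ofBijective τ ⟨(RingHom.injective_iff_ker_eq_bot τ).2 hker, hτ⟩⟩

theorem isCI_ringEquiv_iff {A A' : Type u} [CommRing A] [CommRing A'] [IsLocalRing A] [IsLocalRing A']
    [IsNoetherianRing A] [IsNoetherianRing A'] (e : A ≃+* A') :
    Pi1.IsCompleteIntersection A ↔ Pi1.IsCompleteIntersection A' := by
  obtain ⟨f⟩ := completion_equiv_of_ringEquiv e
  exact ⟨isCI_of_completion_equiv f, isCI_of_completion_equiv f.symm⟩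

theorem isCI_completion_iff (A : Type u) [CommRing A] [IsLocalRing A] [IsNoetherianRing A] :
    Pi1.IsCompleteIntersection (AdicCompletion (maximalIdeal A) A) ↔ Pi1.IsCompleteIntersection A := by
  haveI := isAdicComplete_adicCompletion A
  let e : AdicCompletion (maximalIdeal A) A ≃+*
      AdicCompletion (maximalIdeal (AdicCompletion (maximalIdeal A) A)) (AdicCompletion (maximalIdeal A) A) :=
    RingEquiv.ofBijective (algebraMap _ _) (AdicCompletion.of_bijective _ _)
  exact ⟨isCI_of_completion_equiv e.symm, isCI_of_completion_equiv e⟩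

/-- The complete case. -/
theorem avramov_complete {A B : Type u} [CommRing A] [CommRing B] [IsNoetherianRing A] [IsNoetherianRing B]
    [IsLocalRing A] [IsLocalRing B] [IsAdicComplete (maximalIdeal A) A] [IsAdicComplete (maximalIdeal B) B]
    [Algebra A B] [IsLocalHom (algebraMap A B)] [Module.Flat A B]
    [IsLocalRing (B ⧸ (maximalIdeal A).map (algebraMap A B))] :
    Pi1.IsCompleteIntersection B ↔ (Pi1.IsCompleteIntersection A ∧
      Pi1.IsCompleteIntersection (B ⧸ (maximalIdeal A).map (algebraMap A B))) := by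
  obtain ⟨R, G, _, _, _, _, _, _, _, _, _, _, π, q, hπ, hq, hc⟩ :=
    exists_regular_cover (IsNoetherian.noetherian _) (IsNoetherian.noetherian _) (algebraMap A B)
  rw [isCI_iff_ciKer q hq, isCI_iff_ciKer π hπ,
    isCI_iff_ciKer (fibMap π q hπ hc) (fibMap_surjective π q hπ hq hc)]
  exact ⟨ciKer_base_and_fibre π q hπ hq hc, fun h => ciKer_of_fibre π q hπ hq hc h.1 h.2⟩

/-- Avramov: a flat local extension is a complete intersection iff base and closed fibre are. -/
theorem avramov {A B : Type u} [CommRing A] [CommRing B] [IsNoetherianRing A] [IsNoetherianRing B]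
    [IsLocalRing A] [IsLocalRing B] [Algebra A B] [IsLocalHom (algebraMap A B)] [Module.Flat A B]
    [IsLocalRing (B ⧸ (maximalIdeal A).map (algebraMap A B))] :
    Pi1.IsCompleteIntersection B ↔ (Pi1.IsCompleteIntersection A ∧
      Pi1.IsCompleteIntersection (B ⧸ (maximalIdeal A).map (algebraMap A B))) := by
  let Ah := AdicCompletion (maximalIdeal A) A
  let Bh := AdicCompletion (maximalIdeal B) B
  haveI := LC.Canon.isNoetherianRing_completion (R := A)
  haveI := LC.Canon.isNoetherianRing_completion (R := B)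
  haveI := isAdicComplete_adicCompletion A
  haveI := isAdicComplete_adicCompletion B
  have hmA : maximalIdeal Ah = (maximalIdeal A).map (algebraMap A Ah) := AdicCompletion.maximalIdeal_eq_map (R := A)
  have hmB : maximalIdeal Bh = (maximalIdeal B).map (algebraMap B Bh) := AdicCompletion.maximalIdeal_eq_map (R := B)
  have hle : (maximalIdeal A).map (algebraMap A Bh) ≤ maximalIdeal Bh := by
    rw [IsScalarTower.algebraMap_eq A B Bh, ← Ideal.map_map, hmB]
    exact Ideal.map_mono (map_maximalIdeal_le (algebraMap A B))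
  obtain ⟨F, -⟩ := Adic7.exists_lift_completion (R := A) (S := A) (B := Bh) (maximalIdeal A) (maximalIdeal Bh)
    (Algebra.ofId A Bh) hle
  letI : Algebra Ah Bh := F.toRingHom.toAlgebra
  have hFA : F.toRingHom.comp (algebraMap A Ah) = algebraMap A Bh := F.comp_algebraMap
  have hmap : (maximalIdeal Ah).map (algebraMap Ah Bh) =
      ((maximalIdeal A).map (algebraMap A B)).map (algebraMap B Bh) := by
    rw [hmA, Ideal.map_map, Ideal.map_map, ← IsScalarTower.algebraMap_eq A B Bh]
    exact congrArg (fun f => Ideal.map f (maximalIdeal A)) hFA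
  haveI : IsLocalHom (algebraMap Ah Bh) := by
    refine ((local_hom_TFAE _).out 0 2).2 ?_
    rw [hmap, hmB]
    exact Ideal.map_mono (map_maximalIdeal_le (algebraMap A B))
  haveI : Module.Flat Ah Bh := (S9231.result A B F.toRingHom
    (hFA.trans (IsScalarTower.algebraMap_eq A B Bh))).2 (RingHom.flat_algebraMap_iff.2 inferInstance)
  let J := (maximalIdeal A).map (algebraMap A B)
  obtain ⟨τ, hτ, hker⟩ := exists_completion_surjection (Ideal.Quotient.mk J) Ideal.Quotient.mk_surjective
  rw [Ideal.mk_ker] at hker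
  let e : (Bh ⧸ (maximalIdeal Ah).map (algebraMap Ah Bh)) ≃+* AdicCompletion (maximalIdeal (B ⧸ J)) (B ⧸ J) :=
    (Ideal.quotEquivOfEq (hmap.trans hker.symm)).trans (RingHom.quotientKerEquivOfSurjective hτ)
  haveI := LC.Canon.isNoetherianRing_completion (R := B ⧸ J)
  haveI := isAdicComplete_adicCompletion (B ⧸ J)
  haveI : IsLocalRing (Bh ⧸ (maximalIdeal Ah).map (algebraMap Ah Bh)) := e.symm.isLocalRing
  rw [← isCI_completion_iff B, ← isCI_completion_iff A, ← isCI_completion_iff (B ⧸ J), ← isCI_ringEquiv_iff e]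
  exact avramov_complete

end Groth.Agent.AvramovLib
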