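import Mathlib
import Groth.Agent.AvramovLib.Main
import Groth.Agent.RegLoc6.Serre
import Groth.Agent.S2165

/-! Localizations of complete intersections. -/

set_option autoImplicit false
set_option linter.style.haveILetI false

universe u

open IsLocalRing Groth.Agent.CILib

namespace Groth.Agent.AvramovLib

/-- Localizing a quotient. -/
theorem exists_quot_localization_equiv {B C : Type u} [CommRing B] [CommRing C] (π : B →+* C)
    (hπ : Function.Surjective π) (q : Ideal C) [q.IsPrime] :
    Nonempty (Localization.AtPrime (q.comap π) ⧸
      (RingHom.ker π).map (algebraMap B (Localization.AtPrime (q.comap π))) ≃+* Localization.AtPrime q) := by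
  let f := Localization.localRingHom (q.comap π) q π rfl
  have hsurj : Function.Surjective f := by
    intro y
    obtain ⟨⟨c, s⟩, rfl⟩ := IsLocalization.mk'_surjective (M := q.primeCompl) y
    obtain ⟨b, rfl⟩ := hπ c
    obtain ⟨t, ht⟩ := hπ s.1
    refine ⟨IsLocalization.mk' _ b (⟨t, fun h => s.2 (ht ▸ h)⟩ : (q.comap π).primeCompl), ?_⟩
    rw [Localization.localRingHom_mk']
    exact congrArg (IsLocalization.mk' _ (π b)) (Subtype.ext ht)
  have hker : RingHom.ker f = (RingHom.ker π).map (algebraMap B (Localization.AtPrime (q.comap π))) := by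
    refine le_antisymm (fun x hx => ?_) ?_
    · obtain ⟨⟨b, s⟩, rfl⟩ := IsLocalization.mk'_surjective (M := (q.comap π).primeCompl) x
      rw [RingHom.mem_ker, Localization.localRingHom_mk', IsLocalization.mk'_eq_zero_iff] at hx
      obtain ⟨t, ht⟩ := hx
      obtain ⟨T, hT⟩ := hπ t.1
      rw [IsLocalization.mk'_mem_map_algebraMap_iff (q.comap π).primeCompl]
      exact ⟨T, fun h => t.2 (hT ▸ h), by rw [RingHom.mem_ker, map_mul, hT, ht]⟩
    · rw [Ideal.map_le_iff_le_comap]
      intro b hb
      show f (algebraMap B _ b) = 0
      rw [Localization.localRingHom_to_map, show π b = 0 from hb, map_zero]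
  exact ⟨(Ideal.quotEquivOfEq hker.symm).trans (RingHom.quotientKerEquivOfSurjective hsurj)⟩

/-- A complete intersection stays one after localizing at a prime. -/
theorem isCI_localization {A : Type u} [CommRing A] [IsNoetherianRing A] [IsLocalRing A]
    (hA : Pi1.IsCompleteIntersection A) (p : Ideal A) [p.IsPrime] :
    Pi1.IsCompleteIntersection (Localization.AtPrime p) := by
  let Ah := AdicCompletion (maximalIdeal A) A
  haveI := LC.Canon.isNoetherianRing_completion (R := A)
  haveI := LC.Canon.faithfullyFlat_completion (R := A)
  obtain ⟨⟨q, hq⟩, hqp⟩ := PrimeSpectrum.comap_surjective_of_faithfullyFlat (A := A) (B := Ah) ⟨p, inferInstance⟩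
  haveI := hq
  have hqp' : q.comap (algebraMap A Ah) = p := congrArg PrimeSpectrum.asIdeal hqp
  obtain ⟨B, _, _, rs, -, hreg, ⟨e⟩⟩ := hA
  haveI : IsNoetherianRing (Localization.AtPrime q) := IsLocalization.isNoetherianRing q.primeCompl _ inferInstance
  haveI : IsNoetherianRing (Localization.AtPrime p) := IsLocalization.isNoetherianRing p.primeCompl _ inferInstance
  let π : B →+* Ah := e.symm.toRingHom.comp (Ideal.Quotient.mk _)
  have hπ : Function.Surjective π := e.symm.surjective.comp Ideal.Quotient.mk_surjective
  have hker : RingHom.ker π = Ideal.ofList rs := by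
    ext x
    rw [RingHom.mem_ker]
    show e.symm (Ideal.Quotient.mk _ x) = 0 ↔ _
    rw [map_eq_zero_iff e.symm e.symm.injective, Ideal.Quotient.eq_zero_iff_mem]
  obtain ⟨eq⟩ := exists_quot_localization_equiv π hπ q
  rw [hker] at eq
  haveI := RegLoc6.isRegularRing_of_isRegularLocalRing B
  haveI := eq.symm.isLocalRing
  have hmem : ∀ r ∈ rs, r ∈ q.comap π := fun r hr => by
    rw [Ideal.mem_comap, show π r = 0 from (hker ▸ Ideal.subset_span hr : r ∈ RingHom.ker π)]
    exact zero_mem q
  haveI : IsNoetherianRing (Localization.AtPrime (q.comap π)) :=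
    IsLocalization.isNoetherianRing (q.comap π).primeCompl _ inferInstance
  have hq' : Pi1.IsCompleteIntersection (Localization.AtPrime q) :=
    (isCI_ringEquiv_iff eq).1 (S2165.result (q.comap π) rs hmem hreg)
  let f := Localization.localRingHom p q (algebraMap A Ah) hqp'.symm
  letI : Algebra (Localization.AtPrime p) (Localization.AtPrime q) := f.toAlgebra
  haveI : IsLocalHom (algebraMap (Localization.AtPrime p) (Localization.AtPrime q)) :=
    Localization.isLocalHom_localRingHom _ _ _ _
  haveI : IsScalarTower A (Localization.AtPrime p) (Localization.AtPrime q) :=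
    IsScalarTower.of_algebraMap_eq fun a => by
      rw [IsScalarTower.algebraMap_apply A Ah (Localization.AtPrime q)]
      exact (Localization.localRingHom_to_map p q (algebraMap A Ah) hqp'.symm a).symm
  haveI : Module.Flat Ah (Localization.AtPrime q) := IsLocalization.flat (Localization.AtPrime q) q.primeCompl
  haveI : Module.Flat A (Localization.AtPrime q) := Module.Flat.trans A Ah (Localization.AtPrime q)
  haveI : Module.Flat (Localization.AtPrime p) (Localization.AtPrime q) :=
    (Module.flat_iff_of_isLocalization (Localization.AtPrime p) p.primeCompl _).2 inferInstance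
  haveI : Nontrivial (Localization.AtPrime q ⧸
      (maximalIdeal (Localization.AtPrime p)).map (algebraMap (Localization.AtPrime p) (Localization.AtPrime q))) :=
    Ideal.Quotient.nontrivial_iff.2 (ne_top_of_le_ne_top (maximalIdeal.isMaximal _).ne_top
      (map_maximalIdeal_le (algebraMap (Localization.AtPrime p) (Localization.AtPrime q))))
  haveI : IsLocalRing (Localization.AtPrime q ⧸
      (maximalIdeal (Localization.AtPrime p)).map (algebraMap (Localization.AtPrime p) (Localization.AtPrime q))) :=
    IsLocalRing.of_surjective' (Ideal.Quotient.mk _) Ideal.Quotient.mk_surjective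
  exact (avramov.1 hq').1

end Groth.Agent.AvramovLib
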