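import Mathlib
import Groth.Agent.AvramovLib.Main
import Groth.Agent.KRegLib.Regular

/-! Quotients of complete intersections by regular sequences; factorizations from covers. -/

set_option autoImplicit false
set_option linter.style.haveILetI false
set_option maxHeartbeats 800000

universe u

open IsLocalRing RingTheory.Sequence Groth.Agent.CILib

namespace Groth.Agent.AvramovLib

/-- Regular sequences compose along surjections. -/
theorem regular_comp {P C D : Type u} [CommRing P] [CommRing C] [CommRing D] (π : P →+* C) (τ : C →+* D)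
    (hπ : Function.Surjective π) (rs₀ : List P) (h₀ : RingHom.ker π = Ideal.ofList rs₀)
    (hw₀ : IsWeaklyRegular P rs₀) (rs₁ : List C) (h₁ : RingHom.ker τ = Ideal.ofList rs₁)
    (hw₁ : IsWeaklyRegular C rs₁) :
    ∃ rs : List P, RingHom.ker (τ.comp π) = Ideal.ofList rs ∧ IsWeaklyRegular P rs := by
  let ls : List P := rs₁.map (Function.surjInv hπ)
  have hls : ls.map π = rs₁ := by
    simp only [ls, List.map_map]
    exact (List.map_congr_left fun a _ => Function.surjInv_eq hπ a).trans (List.map_id _)
  refine ⟨rs₀ ++ ls, ?_, ?_⟩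
  · rw [← RingHom.comap_ker, h₁, Ideal.ofList_append, ← hls, ← Ideal.map_ofList,
      Ideal.comap_map_of_surjective π hπ, ← RingHom.ker_eq_comap_bot, h₀, sup_comm]
  · rw [isWeaklyRegular_append_iff]
    refine ⟨hw₀, ?_⟩
    letI : Algebra P C := π.toAlgebra
    let e : (P ⧸ (Ideal.ofList rs₀ • ⊤ : Submodule P P)) ≃ₗ[P] C :=
      (Submodule.quotEquivOfEq _ (LinearMap.ker (Algebra.linearMap P C))
        (by rw [smul_eq_mul, Ideal.mul_top, ← h₀]; rfl)).trans
        ((Algebra.linearMap P C).quotKerEquivOfSurjective hπ)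
    rw [e.isWeaklyRegular_congr ls, ← isWeaklyRegular_map_algebraMap_iff C C ls,
      show ls.map (algebraMap P C) = rs₁ from hls]
    exact hw₁

/-- A quotient of a complete intersection by a regular sequence is a complete intersection. -/
theorem isCI_quot_regular {S B : Type u} [CommRing S] [CommRing B] [IsNoetherianRing S] [IsNoetherianRing B]
    [IsLocalRing S] [IsLocalRing B] (hS : Pi1.IsCompleteIntersection S) (g : S →+* B)
    (hg : Function.Surjective g) (rs : List S) (hker : RingHom.ker g = Ideal.ofList rs)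
    (hreg : IsWeaklyRegular S rs) : Pi1.IsCompleteIntersection B := by
  obtain ⟨P, _, _, rs₀, -, hreg₀, ⟨e⟩⟩ := hS
  let Sh := AdicCompletion (maximalIdeal S) S
  haveI := LC.Canon.isNoetherianRing_completion (R := S)
  haveI := LC.Canon.isNoetherianRing_completion (R := B)
  haveI := LC.Canon.faithfullyFlat_completion (R := S)
  haveI := isAdicComplete_adicCompletion B
  obtain ⟨τ, hτ, hτker⟩ := exists_completion_surjection g hg
  let π : P →+* Sh := e.symm.toRingHom.comp (Ideal.Quotient.mk _)
  have hπ : Function.Surjective π := e.symm.surjective.comp Ideal.Quotient.mk_surjective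
  have hπk : RingHom.ker π = Ideal.ofList rs₀ := by
    ext x
    rw [RingHom.mem_ker]
    show e.symm (Ideal.Quotient.mk _ x) = 0 ↔ _
    rw [map_eq_zero_iff e.symm e.symm.injective, Ideal.Quotient.eq_zero_iff_mem]
  rw [hker, Ideal.map_ofList] at hτker
  obtain ⟨rs', hk', hw'⟩ := regular_comp π τ hπ rs₀ hπk hreg₀.toIsWeaklyRegular _ hτker hreg.of_flat
  rw [← isCI_completion_iff, isCI_iff_ciKer (τ.comp π) (hτ.comp hπ),
    Synt29.ciKer_iff_regular (τ.comp π) (hτ.comp hπ)]
  exact ⟨rs', ⟨hw', by rw [← hk', smul_eq_mul, Ideal.mul_top]; exact (RingHom.ker_ne_top _).symm⟩, hk'⟩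

variable {R G A : Type u} [CommRing R] [CommRing G] [CommRing A] [Algebra R G]

/-- `A` acts on `G / (ker π) G`. -/
@[reducible] noncomputable def quotAlgebra (π : R →+* A) (hπ : Function.Surjective π) :
    Algebra A (G ⧸ (RingHom.ker π).map (algebraMap R G)) :=
  ((Ideal.quotientMap ((RingHom.ker π).map (algebraMap R G)) (algebraMap R G) Ideal.le_comap_map).comp
    (RingHom.quotientKerEquivOfSurjective hπ).symm.toRingHom).toAlgebra

theorem quotAlgebra_apply (π : R →+* A) (hπ : Function.Surjective π) (r : R) :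
    letI := quotAlgebra (G := G) π hπ
    algebraMap A (G ⧸ (RingHom.ker π).map (algebraMap R G)) (π r) =
      Ideal.Quotient.mk _ (algebraMap R G r) := by
  show Ideal.quotientMap ((RingHom.ker π).map (algebraMap R G)) (algebraMap R G) Ideal.le_comap_map
    ((RingHom.quotientKerEquivOfSurjective hπ).symm (π r)) = _
  rw [← RingHom.quotientKerEquivOfSurjective_apply_mk hπ r, RingEquiv.symm_apply_apply]
  rfl

/-- A regular cover gives a factorization through a flat algebra with regular closed fibre. -/
theorem factor_facts [IsLocalRing R] [IsLocalRing G] [IsLocalRing A] [IsLocalHom (algebraMap R G)]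
    [Module.Flat R G] [IsRegularLocalRing (G ⧸ (maximalIdeal R).map (algebraMap R G))]
    (π : R →+* A) (hπ : Function.Surjective π) :
    letI := quotAlgebra (G := G) π hπ
    IsLocalRing (G ⧸ (RingHom.ker π).map (algebraMap R G)) ∧
      Module.Flat A (G ⧸ (RingHom.ker π).map (algebraMap R G)) ∧
      (∀ [IsLocalRing (G ⧸ (RingHom.ker π).map (algebraMap R G))],
        IsLocalHom (algebraMap A (G ⧸ (RingHom.ker π).map (algebraMap R G)))) ∧
      IsRegularLocalRing ((G ⧸ (RingHom.ker π).map (algebraMap R G)) ⧸
        (maximalIdeal A).map (algebraMap A (G ⧸ (RingHom.ker π).map (algebraMap R G)))) := by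
  letI := quotAlgebra (G := G) π hπ
  let I := RingHom.ker π
  let IS := I.map (algebraMap R G)
  have hIm : IS ≤ (maximalIdeal R).map (algebraMap R G) := Ideal.map_mono (le_maximalIdeal (RingHom.ker_ne_top π))
  haveI : Nontrivial (G ⧸ IS) := Ideal.Quotient.nontrivial_iff.2 (ne_top_of_le_ne_top
    (maximalIdeal.isMaximal G).ne_top (hIm.trans (map_maximalIdeal_le (algebraMap R G))))
  haveI : IsLocalRing (G ⧸ IS) := IsLocalRing.of_surjective' (Ideal.Quotient.mk IS) Ideal.Quotient.mk_surjective
  have hmap : (maximalIdeal A).map (algebraMap A (G ⧸ IS)) =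
      ((maximalIdeal R).map (algebraMap R G)).map (Ideal.Quotient.mk IS) := by
    rw [← map_maximalIdeal_of_surjective π hπ, Ideal.map_map, Ideal.map_map]
    exact congrArg (fun f => Ideal.map f (maximalIdeal R)) (RingHom.ext (quotAlgebra_apply π hπ))
  refine ⟨inferInstance, ?_, ?_, ?_⟩
  · haveI : Module.Flat (R ⧸ I) (G ⧸ IS) := Module.Flat.of_linearEquiv
      (Algebra.TensorProduct.quotIdealMapEquivQuotTensor G I).toLinearEquiv
    exact RingHom.Flat.comp (RingHom.Flat.of_bijective (RingHom.quotientKerEquivOfSurjective hπ).symm.bijective)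
      (RingHom.flat_algebraMap_iff.2 ‹Module.Flat (R ⧸ I) (G ⧸ IS)›)
  · intro _
    refine ((local_hom_TFAE _).out 0 2).2 ?_
    rw [hmap, ← map_maximalIdeal_of_surjective (Ideal.Quotient.mk IS) Ideal.Quotient.mk_surjective]
    exact Ideal.map_mono (map_maximalIdeal_le (algebraMap R G))
  · exact IsRegularLocalRing.of_ringEquiv
      ((DoubleQuot.quotQuotEquivQuotOfLE hIm).symm.trans (Ideal.quotEquivOfEq hmap.symm))

end Groth.Agent.AvramovLib
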