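import Mathlib
import Groth.Agent.AvramovLib.Quot
import Groth.Agent.FlatLoc6.Regular
import Groth.Agent.RegExch.Basic
import Groth.Agent.S2199

/-! Comparing two surjections from flat algebras with regular closed fibres. -/

set_option autoImplicit false
set_option linter.style.haveILetI false
set_option backward.isDefEq.respectTransparency.types false
set_option maxHeartbeats 800000

universe u

open IsLocalRing RingTheory.Sequence Groth.Agent.FlatLoc6

namespace Groth.Agent.AvramovLib

/-- A sequence regular on the closed fibre of a flat module is regular with flat quotient. -/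
theorem regular_of_fibre {A B : Type u} [CommRing A] [CommRing B] [IsNoetherianRing A] [IsNoetherianRing B]
    [IsLocalRing A] [IsLocalRing B] [Algebra A B] [IsLocalHom (algebraMap A B)] :
    ∀ (ys : List B) (N : Type u) [AddCommGroup N] [Module B N] [Module A N] [IsScalarTower A B N]
      [Module.Finite B N] [Module.Flat A N], IsWeaklyRegular (N ⧸ mN A B N) ys →
      IsWeaklyRegular N ys ∧ Module.Flat A (N ⧸ (Ideal.ofList ys • ⊤ : Submodule B N)) := by
  intro ys
  induction ys with
  | nil =>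
    intro N _ _ _ _ _ _ _
    exact ⟨IsWeaklyRegular.nil B N,
      Module.Flat.of_linearEquiv ((Submodule.quotEquivOfEqBot _ (by simp)).restrictScalars A)⟩
  | cons y ys ih =>
    intro N _ _ _ _ _ _ h
    rw [isWeaklyRegular_cons_iff] at h
    have hy : RegFib A N y := (regFib_iff (B := B)).2 h.1
    obtain ⟨e⟩ := exists_quot_fibre (A := A) (B := B) (N := N) y
    haveI : Module.Flat A (QuotSMulTop y N) := flat_quotSMulTop hy
    obtain ⟨h1, h2⟩ := ih (QuotSMulTop y N) ((e.isWeaklyRegular_congr ys).1 h.2)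
    exact ⟨(isWeaklyRegular_cons_iff N y ys).2 ⟨regular_self hy, h1⟩,
      Module.Flat.of_linearEquiv
        ((Submodule.quotOfListConsSMulTopEquivQuotSMulTopInner N y ys).restrictScalars A)⟩

/-- Regularity of a generating sequence descends along faithfully flat local maps. -/
theorem exists_regular_descend {R G : Type u} [CommRing R] [CommRing G] [Algebra R G] [IsLocalRing G]
    [IsNoetherianRing G] [Module.FaithfullyFlat R G] (I : Ideal R) (hI : I.map (algebraMap R G) ≠ ⊤)
    (h : ∃ rs : List G, Ideal.ofList rs = I.map (algebraMap R G) ∧ IsWeaklyRegular G rs) :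
    ∃ ys : List R, Ideal.ofList ys = I ∧ IsWeaklyRegular R ys := by
  obtain ⟨xs, hxs, hspan, hw⟩ := RegExch.exists_regular_subset hI (algebraMap R G '' (I : Set R)) rfl h
  have hys : ∃ ys : List R, (∀ y ∈ ys, y ∈ I) ∧ ys.map (algebraMap R G) = xs := by
    clear hspan hw
    induction xs with
    | nil => exact ⟨[], by simp, rfl⟩
    | cons x xs ih =>
      obtain ⟨y, hy, rfl⟩ := hxs x List.mem_cons_self
      obtain ⟨ys, hys, rfl⟩ := ih (fun a ha => hxs a (List.mem_cons_of_mem _ ha))
      exact ⟨y :: ys, fun a ha => (List.mem_cons.1 ha).elim (fun h => h ▸ hy) (hys a), rfl⟩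
  obtain ⟨ys, hys, rfl⟩ := hys
  refine ⟨ys, ?_, RegExch.isWeaklyRegular_of_faithfullyFlat ys hw⟩
  rw [← Ideal.comap_map_eq_self_of_faithfullyFlat (B := G) (Ideal.ofList ys), Ideal.map_ofList, hspan,
    Ideal.comap_map_eq_self_of_faithfullyFlat]

variable {A T S : Type u} [CommRing A] [CommRing T] [CommRing S] [IsNoetherianRing A] [IsNoetherianRing T]
  [IsNoetherianRing S] [IsLocalRing A] [IsLocalRing T] [IsLocalRing S] [Algebra A T] [Algebra A S]
  [IsLocalHom (algebraMap A T)] [IsLocalHom (algebraMap A S)] [Module.Flat A T] [Module.Flat A S]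
  [IsRegularLocalRing (T ⧸ (maximalIdeal A).map (algebraMap A T))]
  [IsRegularLocalRing (S ⧸ (maximalIdeal A).map (algebraMap A S))]

/-- The kernel of a surjection of flat algebras with regular fibres. -/
theorem ker_facts (p : T →ₐ[A] S) (hp : Function.Surjective p) :
    (∃ ys : List T, RingHom.ker p.toRingHom = Ideal.ofList ys ∧ IsWeaklyRegular T ys) ∧
      RingHom.ker p.toRingHom ⊓ maximalIdeal T ^ 2 ≤ maximalIdeal T * RingHom.ker p.toRingHom := by
  let P := (maximalIdeal A).map (algebraMap A T)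
  let Q := (maximalIdeal A).map (algebraMap A S)
  let K := RingHom.ker p.toRingHom
  have hPQ : P.map p.toRingHom = Q := by
    rw [Ideal.map_map]
    exact congrArg (fun f => Ideal.map f (maximalIdeal A)) p.comp_algebraMap
  let pb : (T ⧸ P) →+* S ⧸ Q := Ideal.quotientMap Q p.toRingHom (Ideal.map_le_iff_le_comap.1 hPQ.le)
  have hpb : Function.Surjective pb := fun z => by
    obtain ⟨s, rfl⟩ := Ideal.Quotient.mk_surjective z
    obtain ⟨t, rfl⟩ := hp s
    exact ⟨Ideal.Quotient.mk P t, rfl⟩
  have hkb : RingHom.ker pb = K.map (Ideal.Quotient.mk P) := by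
    refine le_antisymm (fun z hz => ?_) (Ideal.map_le_iff_le_comap.2 fun x hx => ?_)
    · obtain ⟨t, rfl⟩ := Ideal.Quotient.mk_surjective z
      have ht : p t ∈ P.map p.toRingHom := hPQ.symm ▸ Ideal.Quotient.eq_zero_iff_mem.1 hz
      obtain ⟨w, hw, hwt⟩ := (Ideal.mem_map_iff_of_surjective p.toRingHom hp).1 ht
      rw [show Ideal.Quotient.mk P t = Ideal.Quotient.mk P (t - w) by
        rw [Ideal.Quotient.eq]; simpa using hw]
      exact Ideal.mem_map_of_mem _ (by rw [RingHom.mem_ker, map_sub, hwt]; exact sub_self _)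
    · show Ideal.Quotient.mk Q (p.toRingHom x) = 0
      rw [show p.toRingHom x = 0 from hx, map_zero]
  obtain ⟨rb, hregb, hkerb⟩ := (Synt29.ciKer_iff_regular pb hpb).1
    ((CILib.isCI_iff_ciKer pb hpb).1 (KRegLib.isCompleteIntersection_of_regular _))
  have hlift : ∀ r ∈ rb, ∃ z ∈ K, Ideal.Quotient.mk P z = r := fun r hr => by
    have : r ∈ K.map (Ideal.Quotient.mk P) := hkb ▸ hkerb ▸ Ideal.subset_span hr
    exact (Ideal.mem_map_iff_of_surjective _ Ideal.Quotient.mk_surjective).1 this
  have hys : ∃ ys : List T, (∀ y ∈ ys, y ∈ K) ∧ ys.map (Ideal.Quotient.mk P) = rb := by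
    clear hregb hkerb
    induction rb with
    | nil => exact ⟨[], by simp, rfl⟩
    | cons r rb ih =>
      obtain ⟨z, hz, rfl⟩ := hlift r List.mem_cons_self
      obtain ⟨ys, hys, rfl⟩ := ih (fun a ha => hlift a (List.mem_cons_of_mem _ ha))
      exact ⟨z :: ys, fun a ha => (List.mem_cons.1 ha).elim (fun h => h ▸ hz) (hys a), rfl⟩
  obtain ⟨ys, hysK, rfl⟩ := hys
  have hinf : ∀ x ∈ K, x ∈ P → x ∈ P * K := fun x hx hxP => ker_inf_le p hp ⟨hx, hxP⟩
  have hgen : K = Ideal.ofList ys := by
    refine le_antisymm ?_ (Ideal.span_le.2 hysK)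
    refine Submodule.le_of_le_smul_of_le_jacobson_bot K.fg_of_isNoetherianRing
      ((map_maximalIdeal_le (algebraMap A T)).trans (maximalIdeal_le_jacobson ⊥)) ?_
    intro x hx
    have hxb : Ideal.Quotient.mk P x ∈ (Ideal.ofList ys).map (Ideal.Quotient.mk P) := by
      rw [Ideal.map_ofList, ← hkerb, hkb]
      exact Ideal.mem_map_of_mem _ hx
    rw [Ideal.mem_quotient_iff_mem_sup] at hxb
    obtain ⟨a, ha, b, hb, rfl⟩ := Submodule.mem_sup.1 hxb
    refine Submodule.add_mem_sup ha (hinf b ?_ hb)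
    simpa using sub_mem hx (Ideal.span_le.2 hysK ha : a ∈ K)
  refine ⟨⟨ys, hgen, (regular_of_fibre (A := A) ys T ?_).1⟩, ?_⟩
  · let e : (T ⧸ mN A T T) ≃ₗ[T] T ⧸ P := Submodule.quotEquivOfEq _ _
      (by show P • (⊤ : Submodule T T) = P; rw [smul_eq_mul, Ideal.mul_top])
    rw [e.isWeaklyRegular_congr ys, ← isWeaklyRegular_map_algebraMap_iff (T ⧸ P) (T ⧸ P) ys]
    exact hregb.toIsWeaklyRegular
  · rintro x ⟨hxK, hx2⟩
    let Tb := T ⧸ P
    let Kb := RingHom.ker pb
    have hKm : Kb ≤ maximalIdeal Tb := le_maximalIdeal (RingHom.ker_ne_top pb)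
    letI : Algebra (Tb ⧸ Kb) (Tb ⧸ maximalIdeal Tb) := (Ideal.Quotient.factor hKm).toAlgebra
    haveI : IsScalarTower Tb (Tb ⧸ Kb) (Tb ⧸ maximalIdeal Tb) := IsScalarTower.of_algebraMap_eq (R := Tb) (S := Tb ⧸ Kb) (A := Tb ⧸ maximalIdeal Tb) fun z => rfl
    haveI : IsRegularLocalRing (Tb ⧸ Kb) :=
      IsRegularLocalRing.of_ringEquiv (RingHom.quotientKerEquivOfSurjective hpb).symm
    haveI : Module.Finite (Tb ⧸ Kb) (Tb ⧸ maximalIdeal Tb) :=
      Module.Finite.of_restrictScalars_finite Tb (Tb ⧸ Kb) _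
    have hfd : DRing.HasFiniteTorDim (Tb ⧸ Kb) (Tb ⧸ maximalIdeal Tb) :=
      ⟨_, RegExch.torDimLE_of_pdLE _ _ (RegLoc6.pdLE_of_isRegularLocalRing _ _)⟩
    have hmT : maximalIdeal Tb = (maximalIdeal T).map (Ideal.Quotient.mk P) :=
      (map_maximalIdeal_of_surjective _ Ideal.Quotient.mk_surjective).symm
    have h := S2199.result Kb (maximalIdeal Tb) hKm (maximalIdeal.isMaximal Tb).ne_top hfd
      (Ideal.Quotient.mk P x) (by rw [show Kb = K.map (Ideal.Quotient.mk P) from hkb]; exact Ideal.mem_map_of_mem _ hxK) (by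
        rw [hmT, ← Ideal.map_mul, ← pow_two]
        exact Ideal.mem_map_of_mem _ hx2)
    rw [show Kb = K.map (Ideal.Quotient.mk P) from hkb, hmT, ← Ideal.map_mul,
      Ideal.mem_quotient_iff_mem_sup] at h
    obtain ⟨a, ha, b, hb, rfl⟩ := Submodule.mem_sup.1 h
    refine add_mem ha (Ideal.mul_mono_left (map_maximalIdeal_le (algebraMap A T)) (hinf b ?_ hb))
    have := sub_mem hxK (Ideal.mul_le_right ha : a ∈ K)
    rwa [add_sub_cancel_left] at this

/-- Regularity of the kernel is unchanged by a dominating flat algebra with regular fibre. -/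
theorem ker_comp_regular_iff {B : Type u} [CommRing B] [Nontrivial B] (p : T →ₐ[A] S) (hp : Function.Surjective p)
    (g : S →+* B) :
    (∃ rs : List T, Ideal.ofList rs = RingHom.ker (g.comp p.toRingHom) ∧ IsWeaklyRegular T rs) ↔
      (∃ rs : List S, Ideal.ofList rs = RingHom.ker g ∧ IsWeaklyRegular S rs) := by
  obtain ⟨⟨ys, hys, hwy⟩, hK2⟩ := ker_facts p hp
  constructor
  · rintro ⟨rs, hrs, hw⟩
    have hJ : RingHom.ker (g.comp p.toRingHom) ≠ ⊤ := RingHom.ker_ne_top _
    obtain ⟨xs, rest, hxs, hspan, hwx⟩ := RegExch.exists_split hJ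
      (L := RingHom.ker p.toRingHom) (fun x hx => by
        rw [RingHom.mem_ker, RingHom.comp_apply, show p.toRingHom x = 0 from hx, map_zero])
      (fun x hx => hK2 ⟨hx.1, by rw [pow_two]; exact Ideal.mul_mono_right (le_maximalIdeal hJ) hx.2⟩)
      ⟨rs, hrs, hw⟩
    rw [isWeaklyRegular_append_iff] at hwx
    letI : Algebra T S := p.toRingHom.toAlgebra
    refine ⟨rest.map p.toRingHom, ?_, ?_⟩
    · have h0 : (Ideal.ofList xs).map p.toRingHom = ⊥ := by
        rw [hxs, Ideal.map_eq_bot_iff_le_ker]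
      rw [← Ideal.map_ofList, ← bot_sup_eq ((Ideal.ofList rest).map p.toRingHom), ← h0, ← Ideal.map_sup,
        ← Ideal.ofList_append, hspan]
      refine le_antisymm (Ideal.map_le_iff_le_comap.2 fun x hx => hx) fun s hs => ?_
      obtain ⟨t, rfl⟩ := hp s
      exact Ideal.mem_map_of_mem p.toRingHom (show t ∈ RingHom.ker (g.comp p.toRingHom) from hs)
    · let e : (T ⧸ (Ideal.ofList xs • ⊤ : Submodule T T)) ≃ₗ[T] S :=
        (Submodule.quotEquivOfEq _ (LinearMap.ker (Algebra.linearMap T S))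
          (by rw [smul_eq_mul, Ideal.mul_top, hxs]; rfl)).trans
          ((Algebra.linearMap T S).quotKerEquivOfSurjective hp)
      have := (e.isWeaklyRegular_congr rest).1 hwx.2
      exact (isWeaklyRegular_map_algebraMap_iff S S rest).2 this
  · rintro ⟨rs, hrs, hw⟩
    obtain ⟨rs', h1, h2⟩ := regular_comp p.toRingHom g hp ys hys hwy rs hrs.symm hw
    exact ⟨rs', h1.symm, h2⟩

/-- Passing to the completion of the source. -/
theorem exists_completed {B : Type u} [CommRing B] [IsNoetherianRing B] [IsLocalRing B]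
    [IsAdicComplete (maximalIdeal B) B] [Algebra A B] (g : S →ₐ[A] B) (hg : Function.Surjective g) :
    IsLocalHom (algebraMap A (AdicCompletion (maximalIdeal S) S)) ∧
    Module.Flat A (AdicCompletion (maximalIdeal S) S) ∧
    IsRegularLocalRing (AdicCompletion (maximalIdeal S) S ⧸
      (maximalIdeal A).map (algebraMap A (AdicCompletion (maximalIdeal S) S))) ∧
    ∃ G : AdicCompletion (maximalIdeal S) S →ₐ[A] B, Function.Surjective G ∧
      ((∃ rs : List (AdicCompletion (maximalIdeal S) S), Ideal.ofList rs = RingHom.ker G.toRingHom ∧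
          IsWeaklyRegular (AdicCompletion (maximalIdeal S) S) rs) ↔
        ∃ rs : List S, Ideal.ofList rs = RingHom.ker g.toRingHom ∧ IsWeaklyRegular S rs) := by
  let Sh := AdicCompletion (maximalIdeal S) S
  haveI := LC.Canon.isNoetherianRing_completion (R := S)
  haveI := LC.Canon.faithfullyFlat_completion (R := S)
  have hmS : maximalIdeal Sh = (maximalIdeal S).map (algebraMap S Sh) := AdicCompletion.maximalIdeal_eq_map (R := S)
  let J := (maximalIdeal A).map (algebraMap A S)
  have hJ : (maximalIdeal A).map (algebraMap A Sh) = J.map (algebraMap S Sh) := by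
    rw [IsScalarTower.algebraMap_eq A S Sh, Ideal.map_map]
  refine ⟨?_, Module.Flat.trans A S Sh, ?_, ?_⟩
  · refine ((local_hom_TFAE _).out 0 2).2 ?_
    rw [hJ, hmS]
    exact Ideal.map_mono (map_maximalIdeal_le (algebraMap A S))
  · obtain ⟨τ, hτ, hker⟩ := CILib.exists_completion_surjection (Ideal.Quotient.mk J) Ideal.Quotient.mk_surjective
    rw [Ideal.mk_ker] at hker
    haveI := CILib.isRegularLocalRing_adicCompletion (S ⧸ J)
    exact IsRegularLocalRing.of_ringEquiv
      ((RingHom.quotientKerEquivOfSurjective hτ).symm.trans (Ideal.quotEquivOfEq (hker.trans hJ.symm)))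
  haveI : IsLocalHom g.toRingHom := IsLocalHom.of_surjective _ hg
  have hgm : (maximalIdeal S).map g.toRingHom = maximalIdeal B := map_maximalIdeal_of_surjective g.toRingHom hg
  obtain ⟨F, hF⟩ := Adic7.exists_lift_completion (R := A) (S := S) (B := B) (maximalIdeal S) (maximalIdeal B) g
    hgm.le
  have hker : RingHom.ker F.toRingHom = (RingHom.ker g.toRingHom).map (algebraMap S Sh) := by
    refine le_antisymm (fun x hx => ?_) (Ideal.map_le_iff_le_comap.2 fun s hs => (hF s).trans hs)
    let K := (RingHom.ker g.toRingHom).map (algebraMap S Sh)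
    haveI : Nontrivial (Sh ⧸ K) := Ideal.Quotient.nontrivial_iff.2 (ne_top_of_le_ne_top
      (RingHom.ker_ne_top F.toRingHom) (Ideal.map_le_iff_le_comap.2 fun s hs => (hF s).trans hs))
    haveI : IsLocalRing (Sh ⧸ K) := IsLocalRing.of_surjective' (Ideal.Quotient.mk K) Ideal.Quotient.mk_surjective
    show x ∈ K
    rw [← Ideal.Quotient.eq_zero_iff_mem, ← Ideal.mem_bot,
      ← Ideal.iInf_pow_eq_bot_of_isLocalRing (maximalIdeal (Sh ⧸ K)) (maximalIdeal.isMaximal _).ne_top,
      Submodule.mem_iInf]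
    intro n
    rw [← map_maximalIdeal_of_surjective (Ideal.Quotient.mk K) Ideal.Quotient.mk_surjective, ← Ideal.map_pow,
      Ideal.mem_quotient_iff_mem_sup, hmS, ← Ideal.map_pow, sup_comm]
    obtain ⟨s, hs⟩ := Adic7.exists_sub_algebraMap_mem (maximalIdeal S) (IsNoetherian.noetherian _) x n
    rw [← Ideal.map_pow] at hs
    have hgs : g s ∈ (maximalIdeal S ^ n).map g.toRingHom := by
      have hFm : ((maximalIdeal S ^ n).map (algebraMap S Sh)).map F.toRingHom = (maximalIdeal S ^ n).map g.toRingHom := by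
        rw [Ideal.map_map]
        exact congrArg (fun f => Ideal.map f (maximalIdeal S ^ n)) (RingHom.ext hF)
      rw [← hFm, ← hF s, ← neg_mem_iff]
      have := Ideal.mem_map_of_mem F.toRingHom hs
      rwa [map_sub, show F.toRingHom x = 0 from hx, zero_sub] at this
    obtain ⟨w, hw, hws⟩ := (Ideal.mem_map_iff_of_surjective g.toRingHom hg).1 hgs
    rw [show x = algebraMap S Sh (s - w) + ((x - algebraMap S Sh s) + algebraMap S Sh w) by rw [map_sub]; ring]
    refine Submodule.add_mem_sup (Ideal.mem_map_of_mem _ ?_) (add_mem hs (Ideal.mem_map_of_mem _ hw))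
    rw [RingHom.mem_ker, map_sub, hws]
    exact sub_self _
  refine ⟨F, fun b => ?_, ?_⟩
  · obtain ⟨s, rfl⟩ := hg b
    exact ⟨algebraMap S Sh s, hF s⟩
  · rw [hker]
    exact ⟨exists_regular_descend _ (hker ▸ RingHom.ker_ne_top F.toRingHom),
      fun ⟨rs, h1, h2⟩ => ⟨rs.map (algebraMap S Sh), by rw [← Ideal.map_ofList, h1], h2.of_flat⟩⟩

end Groth.Agent.AvramovLib
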